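import Groth.Agent.VarietyLib.PointComplement
import Groth.Agent.H8Constr.TwistFrac

/-!
# An ample line bundle trivial off a point
-/

set_option autoImplicit false
set_option linter.all false
set_option backward.isDefEq.respectTransparency.types false

universe u

open CategoryTheory CategoryTheory.Limits AlgebraicGeometry Opposite TopologicalSpace
open Groth.Agent.Coherent Groth.Agent.PicLib Groth.Agent.AmpleLib Groth.Agent.EulerLib Groth.Agent.CurveRR24
open Groth.Agent.VarietyLib

namespace Groth.Agent.Filt5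

variable (k : Type u) [Field k] {X : Scheme.{u}} [X.Over (Spec (CommRingCat.of k))]
  [IsProper (X ↘ Spec (CommRingCat.of k))] [IsIntegral X]

include k in
theorem exists_ample_trivial_off (hdim : topologicalKrullDim X = 1) {P : X} (hP : IsClosed ({P} : Set X))
    (Xs : X.Opens) (hXs : (Xs : Set X) = ({P} : Set X)ᶜ) :
    ∃ L : X.Modules, CohB1.IsAmple L ∧
      Nonempty (L.restrict Xs.ι ≅ Coh.structureModule Xs.toScheme) := by
  haveI := isNoetherian_of_proper k (X := X)
  obtain ⟨I, hI, hsupp⟩ := exists_effCartier_point k hdim hP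
  have hη : genericPoint X ∉ (I.support : Set X) := fun h => by
    rw [hsupp, Set.mem_singleton_iff] at h
    exact CurvesLib24.not_isClosed_genericPoint hdim (h ▸ hP)
  have hIi : PicF.IsInvertible (ClSub.idealMod I) := by
    refine isInvertible_of_gens fun x => ?_
    obtain ⟨U, hxU, f, hf, hspan⟩ := hI x
    obtain ⟨c, hc⟩ := (mem_range_idealModι I U.1 f).2 (RingHom.mem_ker.1
      ((I.ker_subschemeι_app U).symm ▸ hspan.ge (Ideal.mem_span_singleton_self f)))
    have hreg : IsLeftRegular f := fun b c (h : f * b = f * c) => sub_eq_zero.1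
      ((mem_nonZeroDivisors_iff.1 hf).2 _ (by rw [sub_mul, mul_comm b, mul_comm c, h, sub_self]))
    exact ⟨U.1, hxU, c, bijective_smul_of_affine_gen I U.2 hc hreg hspan⟩
  obtain ⟨L, hL⟩ := exists_isInverseOf hIi
  obtain ⟨e⟩ := hL
  have hLinv : PicF.IsInvertible L := MorProj.isInvertible_of_tensor_iso (tensorComm L _ ≪≫ e)
  have hpos : (0 : ℤ) < Module.finrank k (Coh.HH X (ClSub.quotMod I) 0) := by
    haveI := finite_HH_of_isCoh k (isCoh_quotMod I) 0
    haveI : Nonempty I.subscheme := by
      obtain ⟨w, -⟩ := I.range_subschemeι.superset (hsupp.ge rfl : P ∈ (I.support : Set X))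
      exact ⟨w⟩
    haveI : Nonempty (I.subschemeι ⁻¹ᵁ (⊤ : X.Opens)) := ⟨⟨Classical.arbitrary _, trivial⟩⟩
    haveI : Nontrivial (GA (baseHom k X) (ClSub.quotMod I)) :=
      inferInstanceAs (Nontrivial Γ(I.subscheme, I.subschemeι ⁻¹ᵁ (⊤ : X.Opens)))
    haveI : Nontrivial (Coh.HH X (ClSub.quotMod I) 0) := (hhZero k _).toEquiv.nontrivial
    exact_mod_cast Module.finrank_pos
  have hchi := euler_idealTwist k hdim.le I hη (L := Coh.structureModule X) isInvertible_structureModule
  rw [euler_congr k X (tensorComm (ClSub.idealMod I) (Coh.structureModule X) ≪≫ unitTensorIso _)] at hchi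
  have hdegI : Curv2.deg k X (ClSub.idealMod I) 1 < 0 := by
    simp only [Curv2.deg, Nat.cast_one, one_mul]
    omega
  have hsum := deg_tensor k hdim.le hIi hLinv
  rw [deg_congr k e, deg_structure] at hsum
  refine ⟨L, isAmple_of_deg_pos k hdim hLinv (by omega), ?_⟩
  obtain ⟨s, hs⟩ := AbCubeLib.exists_section_of_effCartier I hI hLinv ⟨tensorComm _ _ ≪≫ e⟩
  obtain rfl : Xs = glocus L s := Opens.ext (by rw [hs, hsupp, hXs])
  exact H8Constr.nonempty_restrict_iso_of_isGen (AmpleLib.isGen_glocus s)

end Groth.Agent.Filt5
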