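import Groth.Agent.Filt5.Triv
import Groth.Agent.Filt5.PointLine
import Groth.Agent.AmpleLib.Ample
import Groth.Agent.AmpleLib.Generated
import Groth.Agent.AmpleLib.Relative
import Groth.Agent.Stk19b.HilbCurve.Field
import Groth.Agent.SerreDual.LocFreeCriterion
import Groth.Agent.CycLib28.PB.Ops.TensorFree
import Groth.Agent.EulerPn5.CanonOver

/-!
# Bundles with trivial determinant on a family over an affine base are locally trivial off a point
-/

set_option autoImplicit false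
set_option linter.all false
set_option backward.isDefEq.respectTransparency.types false
set_option maxHeartbeats 1600000

universe u

open CategoryTheory CategoryTheory.Limits AlgebraicGeometry Opposite TopologicalSpace
open Groth.Agent.Coherent Groth.Agent.PicLib Groth.Agent.AmpleLib

namespace Groth.Agent.Filt5

theorem tensorPow_trivial {Z : Scheme.{u}} {L : Z.Modules} (e : L ≅ Coh.structureModule Z) :
    ∀ n : ℕ, Nonempty (CohB1.tensorPow L n ≅ Coh.structureModule Z)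
  | 0 => ⟨Iso.refl _⟩
  | n + 1 =>
    let ⟨e'⟩ := tensorPow_trivial e n
    ⟨AmpleLib.tensorIso e' e ≪≫ unitTensorIso _⟩

theorem drinfeld (k : Type u) [Field k] [Infinite k]
    (X : Scheme.{u}) (f : X ⟶ Spec (CommRingCat.of k)) (hX : Curve.IsSmoothProperCurve k X f)
    (x₀ : X) (hx₀ : IsClosed ({x₀} : Set X)) (Xs : X.Opens) (hXs : (Xs : Set X) = ({x₀} : Set X)ᶜ)
    (U : Scheme.{u}) [IsAffine U] (g : U ⟶ Spec (CommRingCat.of k))
    (E : (pullback f g).Modules) (r : ℕ) (hE : FlatMod.IsFinLocFreeOfRank r E)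
    (hdet : ∃ D : (pullback f g).Modules, ExtPow.IsExtPow r E D ∧ Nonempty (D ≅ Coh.structureModule (pullback f g)))
    (u : U) :
    ∃ V : U.Opens, u ∈ V ∧
      Nonempty (E.restrict ((pullback.fst f g) ⁻¹ᵁ Xs ⊓ (pullback.snd f g) ⁻¹ᵁ V).ι ≅
        FlatMod.freeMod (↑((pullback.fst f g) ⁻¹ᵁ Xs ⊓ (pullback.snd f g) ⁻¹ᵁ V)) r) := by
  obtain ⟨hfP, hfS, hfI, hdim⟩ := hX
  letI : X.Over (Spec (CommRingCat.of k)) := ⟨f⟩
  haveI : IsProper (X ↘ Spec (CommRingCat.of k)) := hfP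
  haveI := hfI
  haveI := hfS
  haveI : IsProper f := hfP
  rcases Nat.eq_zero_or_pos r with rfl | hr
  · refine ⟨⊤, trivial, ?_⟩
    have hr0 : FlatMod.IsFinLocFreeOfRank 0
        (E.restrict ((pullback.fst f g) ⁻¹ᵁ Xs ⊓ (pullback.snd f g) ⁻¹ᵁ (⊤ : U.Opens)).ι) :=
      DQCoh.RpushDegree17.isFinLocFreeOfRank_of_iso (AmpleLib.restrictIsoPullback _ E).symm
        (VarietyLib.isFinLocFreeOfRank_pullback _ hE)
    exact ⟨(isZero_of_rank_zero hr0).iso (isZero_of_rank_zero (VarietyLib.isFinLocFreeOfRank_freeMod 0))⟩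
  obtain ⟨s, rfl⟩ : ∃ s, r = s + 1 := ⟨r - 1, by omega⟩
  let P := pullback f g
  let q : P ⟶ X := pullback.fst f g
  let p : P ⟶ U := pullback.snd f g
  haveI : IsProper p := MorphismProperty.pullback_snd (P := @IsProper) _ _ ‹_›
  haveI : SmoothOfRelativeDimension 1 f := Stk19b.HilbCurve.smoothOfRelativeDimension_one f hdim
  haveI : SmoothOfRelativeDimension 1 p := by
    haveI := smoothOfRelativeDimension_isStableUnderBaseChange 1
    exact MorphismProperty.pullback_snd (P := @SmoothOfRelativeDimension 1) _ _ ‹_›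
  haveI : IsAffineHom q := MorphismProperty.pullback_fst (P := @IsAffineHom) _ _ (isAffineHom_of_isAffine g)
  -- a generated twist
  obtain ⟨L, hL, ⟨eL⟩⟩ := exists_ample_trivial_off k hdim hx₀ Xs hXs
  let LP := (Scheme.Modules.pullback q).obj L
  have hLP : CohB1.IsAmple LP := AmpleLib.isAmple_pullback_of_isAffineHom q hL
  haveI := LocFreeLib.isQCoh_of_isFinLocFreeOfRank hE
  have hEc : Coh.IsCoh E :=
    ⟨inferInstance, CAlgSmall.FPExtend.isFT_of_isFP _ (Props12.isFP_of_isFinLocFree _ (VarietyLib.isFinLocFree_of_rank hE))⟩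
  obtain ⟨N, hN⟩ := AmpleLib.eventually_globallyGenerated hLP E hEc
  have hLi : PicF.IsInvertible LP := (isAmple_iff_affGlocus.1 hLP).1
  let LN := CohB1.tensorPow LP N
  let E₂ := CohB1.tensorMod E LN
  have hE₂ : FlatMod.IsFinLocFreeOfRank (s + 1) E₂ := by
    have := CycLib28.PB.Ops.isFinLocFreeOfRank_tensor hE
      (PicLib.isFinLocFreeOfRank_one (AmpleLib.isInvertible_tensorPow hLi N))
    rwa [mul_one] at this
  haveI := LocFreeLib.isQCoh_of_isFinLocFreeOfRank hE₂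
  have hE₂n : Nice E₂ := ⟨inferInstance, Props12.isFP_of_isFinLocFree _ (VarietyLib.isFinLocFree_of_rank hE₂)⟩
  have hfree : ∀ x, IsFreeAt E₂ (s + 1) x := fun x => by
    obtain ⟨O, m, hxO, hb⟩ := Props12.exists_nhd_basis_stalk E₂ (VarietyLib.isFinLocFree_of_rank hE₂) x
    obtain ⟨b⟩ := hb x hxO
    exact ⟨Module.Free.of_basis b, Module.Finite.of_basis b, VarietyLib.finrank_stalk_of_rank hE₂ x⟩
  let ψ : k →+* Γ(P, ⊤) := (q ≫ f).appTop.hom.comp (Scheme.ΓSpecIso (CommRingCat.of k)).inv.hom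
  obtain ⟨O, hO, hmain⟩ := exists_trivial_open k ψ (exists_generic_points p u : IsCurveLike (p ⁻¹' {u})) s E₂ hE₂n
    (fun x _ => hfree x) fun x _ => SerreDual.span_germ_top_eq_top (hN N le_rfl) x
  -- the tube
  have hcl : IsClosed (p '' (O : Set P)ᶜ) := p.isClosedMap _ O.2.isClosed_compl
  have hu : u ∈ (⟨(p '' (O : Set P)ᶜ)ᶜ, hcl.isOpen_compl⟩ : U.Opens) := fun ⟨x, hx, hxu⟩ => hx (hO hxu)
  obtain ⟨V, hV, huV, hVO⟩ : ∃ V : U.Opens, IsAffineOpen V ∧ u ∈ V ∧ V ≤ ⟨(p '' (O : Set P)ᶜ)ᶜ, hcl.isOpen_compl⟩ :=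
    Opens.isBasis_iff_nbhd.mp U.isBasis_affineOpens hu
  refine ⟨V, huV, ?_⟩
  let Z : P.Opens := q ⁻¹ᵁ Xs ⊓ p ⁻¹ᵁ V
  haveI : IsAffine Z.toScheme := by
    have hXa : IsAffineOpen Xs := by
      have := VarietyLib.isAffineOpen_compl_point k hdim hx₀
      convert this using 1
      exact Opens.ext hXs
    exact AmpleLib.isAffineOpen_fst_inf_snd f g (isAffineOpen_top (Spec (CommRingCat.of k))) hXa hV le_top le_top
  have hj : ∀ z, Z.ι z ∈ O := fun z => by
    by_contra hz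
    exact hVO z.2.2 ⟨Z.ι z, hz, rfl⟩
  -- the twist is trivial on the tube
  let h : Z.toScheme ⟶ Xs.toScheme := IsOpenImmersion.lift Xs.ι (Z.ι ≫ q) (by
    rintro _ ⟨z, rfl⟩
    rw [Scheme.Opens.range_ι]
    exact z.2.1)
  let eLP : (Scheme.Modules.pullback Z.ι).obj LP ≅ Coh.structureModule Z.toScheme :=
    (Scheme.Modules.pullbackComp Z.ι q).app L ≪≫
      (Scheme.Modules.pullbackCongr (IsOpenImmersion.lift_fac Xs.ι (Z.ι ≫ q) _).symm).app L ≪≫
      (Scheme.Modules.pullbackComp h Xs.ι).symm.app L ≪≫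
      (Scheme.Modules.pullback h).mapIso ((AmpleLib.restrictIsoPullback Xs.ι L).symm ≪≫ eL) ≪≫
      PicLoc.pullbackStructureIso h
  obtain ⟨ePow, -⟩ := AmpleLib.exists_pullPowIso Z.ι hLi N
  obtain ⟨eN⟩ := tensorPow_trivial eLP N
  let e : E.restrict Z.ι ≅ (Scheme.Modules.pullback Z.ι).obj E₂ :=
    AmpleLib.restrictIsoPullback Z.ι E ≪≫ (unitTensorIso _).symm ≪≫ AmpleLib.tensorComm _ _ ≪≫
      AmpleLib.tensorIso (Iso.refl _) (ePow ≪≫ eN).symm ≪≫ (DCat.PullTensor.pullTensorIso Z.ι E LN).symm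
  obtain ⟨D, hD, ⟨eD⟩⟩ := hdet
  have hD' : ExtPow.IsExtPow (s + 1) ((Scheme.Modules.pullback Z.ι).obj E₂) ((Scheme.Modules.pullback Z.ι).obj D) :=
    EulerPn5.CanonOver.isExtPow_congr_source ((AmpleLib.restrictIsoPullback Z.ι E).symm ≪≫ e)
      (Canon15.isExtPow_pullback Z.ι hE hD)
  obtain ⟨e'⟩ := hmain Z.toScheme Z.ι hj _ hD'
    ⟨(Scheme.Modules.pullback Z.ι).mapIso eD ≪≫ PicLoc.pullbackStructureIso Z.ι⟩
  exact ⟨e ≪≫ e'⟩

end Groth.Agent.Filt5
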