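import Groth.Agent.Filt5.Filt
import Groth.Agent.H8Lim.ModEq
import Groth.Agent.Coherent.FiniteType

/-!
# On an affine scheme an extension of a free module by the structure module is free
-/

set_option autoImplicit false
set_option linter.all false
set_option backward.isDefEq.respectTransparency.types false
set_option maxHeartbeats 1000000

universe u

open CategoryTheory CategoryTheory.Limits AlgebraicGeometry Opposite TopologicalSpace
open Groth.Agent.Coherent Groth.Agent.PicLib

namespace Groth.Agent.Filt5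

variable {X : Scheme.{u}}

theorem unit_hom_ext {M : X.Modules} {a b : Coh.structureModule X ⟶ M} (h : unitVal a ⊤ = unitVal b ⊤) : a = b := by
  refine Scheme.Modules.hom_ext _ _ fun V => ?_
  refine ConcreteCategory.hom_ext _ _ fun r => ?_
  show a.app V r = b.app V r
  rw [Coherent.app_unit a (show Γ(X, V) from r), Coherent.app_unit b (show Γ(X, V) from r),
    ← Coherent.resM_unitVal a (le_top : V ≤ ⊤), ← Coherent.resM_unitVal b (le_top : V ≤ ⊤), h]

theorem nonempty_free_extension [IsAffine X] {n : ℕ} {A B : X.Modules} [Coh.IsQCoh A] [Coh.IsQCoh B]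
    (π : A ⟶ B) [Epi π] (eB : B ≅ FlatMod.freeMod X (n + 1)) (eK : kernel π ≅ Coh.structureModule X) :
    Nonempty (A ≅ FlatMod.freeMod X (n + 2)) := by
  classical
  let O := Coh.structureModule X
  let bs : Fin (n + 1) → (O ⟶ B) := fun i => Sigma.ι (fun _ : Fin (n + 1) => O) i ≫ eB.inv
  choose a ha using fun i => H8Lim.app_surjective_of_epi π (isAffineOpen_top X) (unitVal (bs i) ⊤)
  let s : B ⟶ A := eB.hom ≫ Sigma.desc fun i => Coherent.unitDesc A (a i)
  have hs : s ≫ π = 𝟙 B := by
    rw [← cancel_epi eB.inv]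
    show eB.inv ≫ (eB.hom ≫ _) ≫ π = eB.inv ≫ 𝟙 B
    rw [Category.assoc, Iso.inv_hom_id_assoc, Category.comp_id]
    refine Sigma.hom_ext _ _ fun i => ?_
    rw [Sigma.ι_desc_assoc]
    refine unit_hom_ext ?_
    show π.app ⊤ (unitVal (Coherent.unitDesc A (a i)) ⊤) = unitVal (bs i) ⊤
    rw [Coherent.unitVal_unitDesc, ← ha i]
    exact congrArg _ (ConcreteCategory.congr_hom (A.presheaf.map_id _) _)
  let S := ShortComplex.mk (kernel.ι π) π (kernel.condition π)
  have hS : S.ShortExact :=
    ShortComplex.ShortExact.mk' (ShortComplex.exact_of_f_is_kernel _ (kernelIsKernel π)) inferInstance inferInstance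
  let σ : S.Splitting := ShortComplex.Splitting.ofExactOfSection S hS.exact s hs (inferInstanceAs (Mono (kernel.ι π)))
  let f : O ⟶ FlatMod.freeMod X (n + 2) := Sigma.ι (fun _ : Fin (n + 2) => O) 0
  let g : FlatMod.freeMod X (n + 2) ⟶ FlatMod.freeMod X (n + 1) :=
    Sigma.desc (Fin.cons 0 fun i => Sigma.ι (fun _ : Fin (n + 1) => O) i : Fin (n + 2) → _)
  let τ : (ShortComplex.mk f g (by simp only [f, g, Sigma.ι_desc, Fin.cons_zero])).Splitting :=
    { r := Sigma.desc (Fin.cons (𝟙 O) fun _ => 0 : Fin (n + 2) → (O ⟶ O))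
      s := Sigma.desc fun i => Sigma.ι (fun _ : Fin (n + 2) => O) i.succ
      f_r := by simp only [f, Sigma.ι_desc, Fin.cons_zero]
      s_g := Sigma.hom_ext _ _ fun i => by
        show Sigma.ι (fun _ : Fin (n + 1) => O) i ≫ Sigma.desc _ ≫ g = Sigma.ι (fun _ : Fin (n + 1) => O) i ≫ 𝟙 _
        rw [Sigma.ι_desc_assoc, Category.comp_id]
        simp only [g, Sigma.ι_desc, Fin.cons_succ]
      id := Sigma.hom_ext _ _ fun i => by
        rw [Preadditive.comp_add]
        show Sigma.ι (fun _ : Fin (n + 2) => O) i ≫ Sigma.desc _ ≫ f +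
          Sigma.ι (fun _ : Fin (n + 2) => O) i ≫ g ≫ Sigma.desc _ = Sigma.ι (fun _ : Fin (n + 2) => O) i ≫ 𝟙 _
        simp only [g, Sigma.ι_desc_assoc, Category.comp_id]
        refine Fin.cases ?_ (fun j => ?_) i
        · simp only [Fin.cons_zero, zero_comp, add_zero, Category.id_comp]; rfl
        · simp only [Fin.cons_succ, zero_comp, zero_add, Sigma.ι_desc] }
  exact ⟨σ.isoBinaryBiproduct ≪≫ biprod.mapIso eK eB ≪≫ τ.isoBinaryBiproduct.symm⟩

end Groth.Agent.Filt5
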