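import Groth.Agent.Unram17Lib.RelDim
import Groth.Agent.S7688
import Mathlib

/-!
# Fibres of a morphism smooth of relative dimension one; avoiding finitely many subspaces
-/

set_option autoImplicit false
set_option linter.all false
set_option backward.isDefEq.respectTransparency.types false

universe u

open CategoryTheory CategoryTheory.Limits AlgebraicGeometry TopologicalSpace

namespace Groth.Agent.Filt5

theorem dim_le_one_of_localDim {Z : Scheme.{u}} (h : ∀ z : Z, FlatMor.localDim Z z ≤ 1) :
    topologicalKrullDim Z ≤ 1 := by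
  have hs : ∀ z : Z, ringKrullDim (Z.presheaf.stalk z) ≤ 1 := by
    intro z
    obtain ⟨U, hU⟩ : ∃ U : {U : TopologicalSpace.Opens Z // z ∈ U}, topologicalKrullDim (U.1 : Set Z) ≤ 1 := by
      by_contra hc
      push Not at hc
      have h2 : (2 : WithBot ℕ∞) ≤ FlatMor.localDim Z z := le_iInf fun U => Order.succ_le_of_lt (hc U)
      exact absurd (h2.trans (h z)) (by decide)
    obtain ⟨U, hzU⟩ := U
    have e : Z.presheaf.stalk z ≅ (U : Scheme.{u}).presheaf.stalk ⟨z, hzU⟩ :=
      (Scheme.Opens.stalkIso U ⟨z, hzU⟩).symm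
    rw [ringKrullDim_eq_of_ringEquiv e.commRingCatIsoToRingEquiv]
    exact Groth.Agent.S7688.stalk_dim_le hU _
  rw [topologicalKrullDim, Order.krullDim_eq_of_orderIso (irreducibleSetEquivPoints (α := Z)),
    Order.krullDim_eq_iSup_coheight]
  refine iSup_le fun z => ?_
  rw [← ringKrullDim_stalk_eq_coheight]
  exact hs z

/-- A fibre of a proper morphism smooth of relative dimension one has a finite set of generic points, and closed
subsets avoiding them meet it in finite sets. -/
theorem exists_generic_points {X Y : Scheme.{u}} (f : X ⟶ Y) [QuasiCompact f] [SmoothOfRelativeDimension 1 f]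
    (y : Y) :
    ∃ G : Set X, G.Finite ∧ G ⊆ f ⁻¹' {y} ∧
      ∀ C : Set X, IsClosed C → (∀ g ∈ G, g ∉ C) → (C ∩ f ⁻¹' {y}).Finite := by
  let p := f.fiberToSpecResidueField y
  haveI : Smooth f := SmoothOfRelativeDimension.smooth 1 f
  haveI : LocallyOfFiniteType p := MorphismProperty.pullback_snd _ _ (inferInstance : LocallyOfFiniteType f)
  haveI : IsLocallyNoetherian (f.fiber y) := LocallyOfFiniteType.isLocallyNoetherian p
  haveI : IsNoetherian (f.fiber y) := {}
  have hdim : topologicalKrullDim (f.fiber y) ≤ 1 := by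
    refine dim_le_one_of_localDim fun z => le_of_eq ?_
    haveI := smoothOfRelativeDimension_isStableUnderBaseChange 1
    haveI : SmoothOfRelativeDimension 1 p :=
      MorphismProperty.pullback_snd (P := @SmoothOfRelativeDimension 1) _ _ ‹_›
    exact_mod_cast Unram17Lib.localDim_of_smoothOfRelativeDimension (Y.residueField y) p 1 z
  refine ⟨f.fiberι y '' genericPoints (f.fiber y), (Groth.Agent.S7688.generic_inter_finite).image _,
    (Set.image_subset_range _ _).trans (f.range_fiberι y).le, fun C hC hG => ?_⟩
  have hfin := (Groth.Agent.S7688.finite_of_isClosed_no_generic hdim (hC.preimage (f.fiberι y).continuous)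
    fun w hw hwg => hG _ ⟨w, hwg, rfl⟩ hw).1
  refine (hfin.image (f.fiberι y)).subset fun x hx => ?_
  obtain ⟨w, rfl⟩ := (f.range_fiberι y).ge hx.2
  exact ⟨w, hx.1, rfl⟩

/-- A vector space over an infinite field is not a finite union of proper subspaces. -/
theorem exists_avoid {k V ι : Type*} [Field k] [Infinite k] [AddCommGroup V] [Module k V] (s : Finset ι)
    (W : ι → Submodule k V) (h : ∀ i ∈ s, W i ≠ ⊤) : ∃ v : V, ∀ i ∈ s, v ∉ W i := by
  classical
  induction s using Finset.induction with
  | empty => exact ⟨0, by simp⟩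
  | insert a s ha ih =>
    obtain ⟨x, hx⟩ := ih fun i hi => h i (Finset.mem_insert_of_mem hi)
    by_cases hxa : x ∈ W a
    swap
    · exact ⟨x, fun i hi => (Finset.mem_insert.1 hi).elim (fun e => e ▸ hxa) (hx i)⟩
    obtain ⟨y, hy⟩ : ∃ y, y ∉ W a := by
      by_contra hc
      push Not at hc
      exact h a (Finset.mem_insert_self a s) (Submodule.eq_top_iff'.2 hc)
    have hfin : ∀ i ∈ s, {c : k | x + c • y ∈ W i}.Subsingleton := by
      intro i hi c hc d hd
      by_contra hne
      have h1 : (c - d) • y ∈ W i := by
        rw [sub_smul]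
        have := (W i).sub_mem hc hd
        rwa [add_sub_add_left_eq_sub] at this
      have h2 : y ∈ W i := ((W i).smul_mem_iff (sub_ne_zero.2 hne)).1 h1
      have h3 := (W i).sub_mem hc ((W i).smul_mem c h2)
      rw [add_sub_cancel_right] at h3
      exact hx i hi h3
    obtain ⟨c, hc⟩ := (((s.finite_toSet.biUnion (t := fun i => {c : k | x + c • y ∈ W i})
      fun i hi => (hfin i hi).finite)).union (Set.finite_singleton (0 : k))).infinite_compl.nonempty
    refine ⟨x + c • y, fun i hi => ?_⟩
    rcases Finset.mem_insert.1 hi with rfl | hi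
    · intro hm
      have h1 : c • y ∈ W i := by
        have := (W i).sub_mem hm hxa
        rwa [add_sub_cancel_left] at this
      exact hy (((W i).smul_mem_iff (fun e => hc (Or.inr e))).1 h1)
    · exact fun hm => hc (Or.inl (Set.mem_biUnion (Finset.mem_coe.2 hi) hm))

end Groth.Agent.Filt5
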