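import Groth.Agent.VarietyLib.DegBasic
import Groth.Agent.KoszPn17.TwistGen
import Groth.Agent.Props12.FinLocFree
import Groth.Agent.DQCoh.RpushDegree17
import Mathlib.CategoryTheory.Abelian.Refinements

/-!
# A chain of quotients gives a filtration by kernels
-/

set_option autoImplicit false
set_option linter.all false
set_option backward.isDefEq.respectTransparency.types false
set_option maxHeartbeats 1000000

universe u

open CategoryTheory CategoryTheory.Limits AlgebraicGeometry Opposite TopologicalSpace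
open Groth.Agent.Coherent

namespace Groth.Agent.Filt5

variable {X : Scheme.{u}}

/-- The kernel of an epimorphism between bundles is a bundle of the complementary rank. -/
theorem isFinLocFreeOfRank_kernel_epi {r s : ℕ} {E Q : X.Modules} (hE : FlatMod.IsFinLocFreeOfRank r E)
    (hQ : FlatMod.IsFinLocFreeOfRank s Q) (p : E ⟶ Q) [Epi p] :
    FlatMod.IsFinLocFreeOfRank (r - s) (kernel p) := by
  have hK := KoszPn17.isFinLocFree_kernel p (VarietyLib.isFinLocFree_of_rank hE) (VarietyLib.isFinLocFree_of_rank hQ)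
  intro x
  obtain ⟨U, m, hxU, ⟨e⟩⟩ := hK x
  haveI := CAlgH3.LocFreeFactor.isQCoh_of_finLocFree hK
  haveI := LocFreeLib.isQCoh_of_isFinLocFreeOfRank hQ
  haveI hf₁ : Module.Free (X.presheaf.stalk x) ((kernel p).presheaf.stalk x) := Props12.free_stalk_of_isFinLocFree _ hK x
  haveI hf₃ : Module.Free (X.presheaf.stalk x) (Q.presheaf.stalk x) :=
    Props12.free_stalk_of_isFinLocFree _ (VarietyLib.isFinLocFree_of_rank hQ) x
  haveI : Module.Finite (X.presheaf.stalk x) ((kernel p).presheaf.stalk x) := by
    obtain ⟨U, m, hxU, hb⟩ := Props12.exists_nhd_basis_stalk _ hK x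
    obtain ⟨b⟩ := hb x hxU
    exact Module.Finite.of_basis b
  haveI : Module.Finite (X.presheaf.stalk x) (Q.presheaf.stalk x) := by
    obtain ⟨U, m, hxU, hb⟩ := Props12.exists_nhd_basis_stalk _ (VarietyLib.isFinLocFree_of_rank hQ) x
    obtain ⟨b⟩ := hb x hxU
    exact Module.Finite.of_basis b
  have hS : (ShortComplex.mk (kernel.ι p) p (kernel.condition p)).ShortExact :=
    ShortComplex.ShortExact.mk' (ShortComplex.exact_of_f_is_kernel _ (kernelIsKernel p)) inferInstance inferInstance
  have hex := hS.map_of_exact (DerSch.stalkFunctor X x)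
  let f : (kernel p).presheaf.stalk x →ₗ[X.presheaf.stalk x] E.presheaf.stalk x :=
    ((DerSch.stalkFunctor X x).map (kernel.ι p)).hom
  let g : E.presheaf.stalk x →ₗ[X.presheaf.stalk x] Q.presheaf.stalk x :=
    ((DerSch.stalkFunctor X x).map p).hom
  have hf : Function.Injective f := (ModuleCat.mono_iff_injective _).mp hex.mono_f
  have hg : Function.Surjective g := (ModuleCat.epi_iff_surjective _).mp hex.epi_g
  have hfg : Function.Exact f g := (ShortComplex.ShortExact.moduleCat_exact_iff_function_exact _).mp hex.exact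
  obtain ⟨t, ht⟩ := Module.projective_lifting_property g LinearMap.id hg
  have e' := (hfg.splitSurjectiveEquiv hf ⟨t, ht⟩).1
  have h := e'.finrank_eq
  rw [VarietyLib.finrank_stalk_of_rank hE x, Module.finrank_prod, VarietyLib.finrank_stalk_of_rank hQ x,
    CohBC.finrank_stalk_of_free (kernel p) hxU e] at h
  obtain rfl : m = r - s := by omega
  exact ⟨U, hxU, ⟨e⟩⟩

theorem isZero_of_rank_zero {Q : X.Modules} (hQ : FlatMod.IsFinLocFreeOfRank 0 Q) : IsZero Q := by
  refine ModStalk.isZero_of_stalks fun x => ?_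
  haveI := LocFreeLib.isQCoh_of_isFinLocFreeOfRank hQ
  obtain ⟨U, m, hxU, hb⟩ := Props12.exists_nhd_basis_stalk Q (VarietyLib.isFinLocFree_of_rank hQ) x
  obtain ⟨b⟩ := hb x hxU
  haveI : Nontrivial (X.presheaf.stalk x) := inferInstance
  obtain rfl : m = 0 := by
    rw [← VarietyLib.finrank_stalk_of_rank hQ x, Module.finrank_eq_card_basis b, Fintype.card_fin]
  haveI : Subsingleton ((DerSch.stalkFunctor X x).obj Q) := b.repr.toEquiv.subsingleton
  exact ModuleCat.isZero_of_subsingleton ((DerSch.stalkFunctor X x).obj Q)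

theorem exists_filtration {r : ℕ} {E : X.Modules} (hE : FlatMod.IsFinLocFreeOfRank r E) (Q : ℕ → X.Modules)
    (π : ∀ i, E ⟶ Q i) [∀ i, Epi (π i)] [Mono (π 0)]
    (hQ : ∀ i, i ≤ r → FlatMod.IsFinLocFreeOfRank (r - i) (Q i))
    (hb : ∀ i, ∃ b : Q i ⟶ Q (i + 1), π i ≫ b = π (i + 1)) :
    ∃ F : Fin (r + 1) → Subobject E, Monotone F ∧ F 0 = ⊥ ∧ F (Fin.last r) = ⊤ ∧
      (∀ i : Fin (r + 1), FlatMod.IsFinLocFreeOfRank (i : ℕ) (Subobject.underlying.obj (F i))) ∧
      (∀ i : Fin r, ∃ h : F i.castSucc ≤ F i.succ,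
        FlatMod.IsFinLocFreeOfRank 1 (cokernel ((F i.castSucc).ofLE (F i.succ) h))) := by
  choose b hb using hb
  have hle : ∀ i, kernelSubobject (π i) ≤ kernelSubobject (π (i + 1)) := fun i =>
    le_kernelSubobject _ _ (by rw [← hb i, kernelSubobject_arrow_comp_assoc, zero_comp])
  refine ⟨fun i => kernelSubobject (π i), fun i j hij => monotone_nat_of_le_succ hle hij, ?_, ?_, fun i => ?_,
    fun i => ?_⟩
  · exact Subobject.mk_eq_bot_iff_zero.2 (kernel.ι_of_mono (π 0))
  · have h0 : π r = 0 := (isZero_of_rank_zero (by simpa using hQ r le_rfl)).eq_of_tgt _ _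
    show kernelSubobject (π r) = ⊤
    rw [h0]
    exact kernelSubobject_zero
  · have h1 := isFinLocFreeOfRank_kernel_epi hE (hQ i (Nat.lt_succ_iff.1 i.2)) (π i)
    rw [show r - (r - (i : ℕ)) = i by omega] at h1
    exact DQCoh.RpushDegree17.isFinLocFreeOfRank_of_iso (kernelSubobjectIso (π i)).symm h1
  · refine ⟨hle i, ?_⟩
    obtain ⟨n, hn⟩ := i
    show FlatMod.IsFinLocFreeOfRank 1 (cokernel ((kernelSubobject (π n)).ofLE (kernelSubobject (π (n + 1))) (hle n)))
    haveI : Epi (b n) := epi_of_epi_fac (hb n)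
    let K := kernelSubobject (π (n + 1))
    let g : (K : X.Modules) ⟶ kernel (b n) := kernel.lift (b n) (K.arrow ≫ π n)
      (by rw [Category.assoc, hb n]; exact kernelSubobject_arrow_comp _)
    let L := (kernelSubobject (π n)).ofLE K (hle n)
    have hw : L ≫ g = 0 := by
      rw [← cancel_mono (kernel.ι (b n))]
      simp [g, L]
    haveI : Epi g := by
      rw [epi_iff_surjective_up_to_refinements]
      intro A y
      obtain ⟨A', p, hp, x, hx⟩ := surjective_up_to_refinements_of_epi (π n) (y ≫ kernel.ι (b n))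
      have hx0 : x ≫ π (n + 1) = 0 := by
        rw [← hb n, ← Category.assoc, ← hx, Category.assoc, Category.assoc, kernel.condition, comp_zero,
          comp_zero]
      refine ⟨A', p, hp, factorThruKernelSubobject _ x hx0, ?_⟩
      rw [← cancel_mono (kernel.ι (b n))]
      simp only [Category.assoc, g, kernel.lift_ι, K]
      rw [← Category.assoc (factorThruKernelSubobject _ x hx0), factorThruKernelSubobject_comp_arrow]
      exact hx
    have hex : (ShortComplex.mk L g hw).Exact := by
      rw [ShortComplex.exact_iff_exact_up_to_refinements]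
      intro A x hx
      have hx' : (x ≫ K.arrow) ≫ π n = 0 := by
        have := congrArg (fun t => t ≫ kernel.ι (b n)) hx
        simpa [g] using this
      refine ⟨A, 𝟙 A, inferInstance, factorThruKernelSubobject _ _ hx', ?_⟩
      rw [Category.id_comp, ← cancel_mono K.arrow]
      show x ≫ K.arrow = (factorThruKernelSubobject _ _ hx' ≫ L) ≫ K.arrow
      simp [L]
    have h1 := isFinLocFreeOfRank_kernel_epi (hQ n hn.le) (hQ (n + 1) hn) (b n)
    rw [show r - n - (r - (n + 1)) = 1 by omega] at h1
    exact DQCoh.RpushDegree17.isFinLocFreeOfRank_of_iso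
      (hex.gIsCokernel.coconePointUniqueUpToIso (cokernelIsCokernel L)) h1

end Groth.Agent.Filt5
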