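import Groth.Agent.Filt5.Step
import Groth.Agent.Filt5.Filt
import Groth.Agent.FlatMor12.ProjectiveAmple
import Groth.Agent.CAlgSmall.ProjMore
import Groth.Agent.RelVALib.ChowPn
import Groth.Agent.CurveRR24.DegOneApps
import Groth.Agent.VB5.Twist
import Groth.Agent.Clifford24.RankTwoSub
import Groth.Agent.AmpleLib.Generated
import Groth.Agent.Coherent.CohBC.TwistBC

/-!
# Generic filtration of a bundle on a family of projective curves by line bundles
-/

set_option autoImplicit false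
set_option linter.all false
set_option backward.isDefEq.respectTransparency.types false
set_option maxHeartbeats 1600000

universe u

open CategoryTheory CategoryTheory.Limits AlgebraicGeometry Opposite TopologicalSpace
open Groth.Agent.Coherent Groth.Agent.PicLib Groth.Agent.AmpleLib

namespace Groth.Agent.Filt5

theorem main (k : Type u) [Field k] [Infinite k] {X Y : Scheme.{u}}
    (pY : Y ⟶ Spec (CommRingCat.of k)) [LocallyOfFiniteType pY] [IrreducibleSpace Y]
    (f : X ⟶ Y) [SmoothOfRelativeDimension 1 f]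
    (n : ℕ) (ι : X ⟶ CohB1.ProjSpaceOver n Y) [IsClosedImmersion ι]
    (hι : ι ≫ CohB1.ProjSpaceOver.toBase n Y = f)
    (E : X.Modules) (r : ℕ) (hr : 1 ≤ r) (hE : FlatMod.IsFinLocFreeOfRank r E) :
    ∃ U : Y.Opens, (U : Set Y).Nonempty ∧
      ∃ F : Fin (r + 1) → Subobject (E.restrict (f ⁻¹ᵁ U).ι),
        Monotone F ∧ F 0 = ⊥ ∧ F (Fin.last r) = ⊤ ∧
        (∀ i : Fin (r + 1), FlatMod.IsFinLocFreeOfRank (i : ℕ) (Subobject.underlying.obj (F i))) ∧
        (∀ i : Fin r, ∃ h : F i.castSucc ≤ F i.succ,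
          FlatMod.IsFinLocFreeOfRank 1 (cokernel ((F i.castSucc).ofLE (F i.succ) h))) := by
  obtain ⟨s, rfl⟩ : ∃ s, r = s + 1 := ⟨r - 1, by omega⟩
  haveI : IsProper (CohB1.ProjSpaceOver.toBase n Y) := RelVALib.isProper_toBase n Y
  haveI : IsProper f := hι ▸ (inferInstance : IsProper (ι ≫ CohB1.ProjSpaceOver.toBase n Y))
  haveI : IsLocallyNoetherian Y := LocallyOfFiniteType.isLocallyNoetherian pY
  haveI : IsLocallyNoetherian X := LocallyOfFiniteType.isLocallyNoetherian f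
  let η : Y := genericPoint Y
  obtain ⟨V, hV, hηV⟩ : ∃ V : Y.Opens, IsAffineOpen V ∧ η ∈ V := by
    obtain ⟨V, h1, h2, -⟩ := Opens.isBasis_iff_nbhd.mp Y.isBasis_affineOpens (Opens.mem_top η)
    exact ⟨V, h1, h2⟩
  let X' : X.Opens := f ⁻¹ᵁ V
  haveI : IsAffine V.toScheme := hV
  let g : X'.toScheme ⟶ V.toScheme := f ∣_ V
  haveI : IsProper g := MorphismProperty.of_isPullback (P := @IsProper) (isPullback_morphismRestrict f V).flip ‹_›
  haveI : IsLocallyNoetherian X'.toScheme := inferInstance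
  haveI : CompactSpace X'.toScheme := QuasiCompact.compactSpace_of_compactSpace g
  -- an ample module on the preimage
  let j : X'.toScheme ⟶ CohB1.ProjSpaceOver n V.toScheme :=
    pullback.lift (X'.ι ≫ ι ≫ pullback.fst _ _) g (specULiftZIsTerminal.hom_ext _ _)
  let jj : CohB1.ProjSpaceOver n V.toScheme ⟶ CohB1.ProjSpaceOver n Y :=
    pullback.map _ _ _ _ (𝟙 _) V.ι (𝟙 _) (by simp) (specULiftZIsTerminal.hom_ext _ _)
  have hjj : j ≫ jj = X'.ι ≫ ι := by
    refine pullback.hom_ext ?_ ?_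
    · refine (Category.assoc _ _ _).trans (Eq.trans ?_ (Category.assoc _ _ _).symm)
      refine (congrArg (j ≫ ·) (pullback.lift_fst _ _ _)).trans ?_
      refine (Category.assoc _ _ _).symm.trans ((Category.comp_id _).trans (pullback.lift_fst _ _ _))
    · refine (Category.assoc _ _ _).trans (Eq.trans ?_ (Category.assoc _ _ _).symm)
      refine (congrArg (j ≫ ·) (pullback.lift_snd _ _ _)).trans ?_
      refine ((Category.assoc _ _ _).symm.trans (congrArg (· ≫ V.ι) (pullback.lift_snd _ _ _))).trans ?_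
      exact (morphismRestrict_ι f V).trans (congrArg (X'.ι ≫ ·) hι.symm)
  haveI : IsImmersion (j ≫ jj) := hjj ▸ inferInstance
  haveI : IsImmersion j := IsImmersion.of_comp j jj
  haveI : IsProper (CohB1.ProjSpaceOver.toBase n V.toScheme) := RelVALib.isProper_toBase n V.toScheme
  haveI : QuasiCompact (j ≫ CohB1.ProjSpaceOver.toBase n V.toScheme) :=
    (pullback.lift_snd _ _ _ : j ≫ CohB1.ProjSpaceOver.toBase n V.toScheme = g).symm ▸ inferInstance
  haveI : QuasiCompact j := QuasiCompact.of_comp j (CohB1.ProjSpaceOver.toBase n V.toScheme)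
  obtain ⟨L, hL⟩ := FlatMor12.ProjectiveAmple.exists_isAmple_of_immersion
    ⟨_, CAlgSmall.ProjMore.isAmple_of_isAffine (S := V.toScheme)⟩ j
  -- a generated twist
  let E₁ : X'.toScheme.Modules := (Scheme.Modules.pullback X'.ι).obj E
  have hE₁ : FlatMod.IsFinLocFreeOfRank (s + 1) E₁ := VarietyLib.isFinLocFreeOfRank_pullback X'.ι hE
  obtain ⟨N, hN⟩ := AmpleLib.eventually_globallyGenerated hL E₁
    (CohBC.isCoh_of_isFinLocFree (VarietyLib.isFinLocFree_of_rank hE₁))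
  have hLi : PicF.IsInvertible L := (isAmple_iff_affGlocus.1 hL).1
  let LN := CohB1.tensorPow L N
  have hLN : PicF.IsInvertible LN := AmpleLib.isInvertible_tensorPow hLi N
  let E₂ := CohB1.tensorMod E₁ LN
  have hE₂ : FlatMod.IsFinLocFreeOfRank (s + 1) E₂ := Clifford24.isFinLocFreeOfRank_tensorMod hE₁ hLN
  obtain ⟨M, ⟨eM⟩⟩ := VarietyLib.exists_isInverseOf hLN
  have hM : PicF.IsInvertible M :=
    PicM.isInvertible_of_tensor hLN (glocus_isInvertible_of_iso eM.symm isInvertible_structureModule)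
  obtain ⟨back⟩ : Nonempty (CohB1.tensorMod E₂ M ≅ E₁) := by
    obtain ⟨a⟩ := EulerLib.exists_assocIso' E₁ hLN hM
    exact ⟨a ≪≫ AmpleLib.tensorIso (Iso.refl E₁) eM ≪≫ AmpleLib.tensorComm _ _ ≪≫ AmpleLib.unitTensorIso E₁⟩
  have hE₂c : Coh.IsCoh E₂ := CohBC.isCoh_of_isFinLocFree (VarietyLib.isFinLocFree_of_rank hE₂)
  haveI := hE₂c.1
  -- the fibre over the generic point
  let η' : V.toScheme := ⟨η, hηV⟩
  haveI : SmoothOfRelativeDimension 1 g := by
    haveI := smoothOfRelativeDimension_isStableUnderBaseChange 1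
    exact MorphismProperty.of_isPullback (P := @SmoothOfRelativeDimension 1) (isPullback_morphismRestrict f V).flip ‹_›
  have hΦ : IsCurveLike (g ⁻¹' {η'}) := exists_generic_points g η'
  let ψ : k →+* Γ(X'.toScheme, ⊤) := (X'.ι ≫ f ≫ pY).appTop.hom.comp (Scheme.ΓSpecIso (CommRingCat.of k)).inv.hom
  have hfree : ∀ x, IsFreeAt E₂ (s + 1) x := fun x => by
    obtain ⟨U, m, hxU, hb⟩ := Props12.exists_nhd_basis_stalk E₂ (VarietyLib.isFinLocFree_of_rank hE₂) x
    obtain ⟨b⟩ := hb x hxU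
    exact ⟨Module.Free.of_basis b, Module.Finite.of_basis b, VarietyLib.finrank_stalk_of_rank hE₂ x⟩
  obtain ⟨Q, π, hπ, hπ0, hQc, hQ, hb⟩ := exists_chain k ψ hΦ s E₂ ⟨hE₂c.1, Coherent.isFP_of_isCoh hE₂c⟩ (fun x _ => hfree x)
    fun x _ => SerreDual.span_germ_top_eq_top (hN N le_rfl) x
  -- the good open set
  let O : X'.toScheme.Opens := ⟨⋂ i : Fin (s + 2), {x | IsFreeAt (Q i) (s + 1 - i) x},
    isOpen_iInter_of_finite fun i => isOpen_isFreeAt (Q i) (hQc i) _⟩
  have hO : ∀ x : X'.toScheme, g x = η' → x ∈ O := fun x hx =>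
    Set.mem_iInter.2 fun i : Fin (s + 2) => hQ i (Nat.lt_succ_iff.1 i.2) x hx
  let U₁ : V.toScheme.Opens := ⟨(g '' (O : Set X'.toScheme)ᶜ)ᶜ, (g.isClosedMap _ O.2.isClosed_compl).isOpen_compl⟩
  have hη₁ : η' ∈ U₁ := fun ⟨x, hx, hxη⟩ => hx (hO x hxη)
  let U : Y.Opens := V.ι ''ᵁ U₁
  have hUV : U ≤ V := V.ι_image_le U₁
  refine ⟨U, ⟨η, η', hη₁, rfl⟩, ?_⟩
  let Z : X.Opens := f ⁻¹ᵁ U
  have hZX : Z ≤ X' := fun x hx => hUV hx
  let i₁ : Z.toScheme ⟶ X'.toScheme := X.homOfLE hZX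
  have hi₁ : ∀ z, i₁ z ∈ O := fun z => by
    by_contra hz
    have hzU : f z.1 ∈ U := z.2
    obtain ⟨w, hw, hwe⟩ := hzU
    refine hw ⟨i₁ z, hz, Subtype.ext ?_⟩
    refine Eq.trans ?_ hwe.symm
    have h1 : (g ≫ V.ι) (i₁ z) = (X'.ι ≫ f) (i₁ z) := by rw [show g ≫ V.ι = X'.ι ≫ f from morphismRestrict_ι f V]
    have h2 : (i₁ ≫ X'.ι) z = Z.ι z := by rw [show i₁ ≫ X'.ι = Z.ι from X.homOfLE_ι hZX]
    exact h1.trans (congrArg f h2)
  -- pull back and untwist
  let P := Scheme.Modules.pullback i₁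
  let M' := P.obj M
  have hM' : PicF.IsInvertible M' := PicLoc.isInvertible_pullback i₁ hM
  let T : ℕ → Z.toScheme.Modules := fun i => CohB1.tensorMod (P.obj (Q i)) M'
  let e : E.restrict Z.ι ≅ CohB1.tensorMod (P.obj E₂) M' :=
    AmpleLib.restrictIsoPullback Z.ι E ≪≫ (Scheme.Modules.pullbackCongr (X.homOfLE_ι hZX).symm).app E ≪≫
      (Scheme.Modules.pullbackComp i₁ X'.ι).symm.app E ≪≫ P.mapIso back.symm ≪≫
      DCat.PullTensor.pullTensorIso i₁ E₂ M
  let q : ∀ i, E.restrict Z.ι ⟶ T i := fun i => e.hom ≫ AmpleLib.tensorMap (P.map (π i)) (𝟙 M')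
  haveI : ∀ i, Epi (q i) := fun i => by
    haveI := hπ i
    haveI : Epi (P.map (π i)) := inferInstance
    haveI := EulerLib.epi_tensorMap hM' (P.map (π i))
    exact epi_comp _ _
  haveI : Mono (q 0) := by
    haveI := hπ 0
    haveI : IsIso (π 0) := isIso_of_mono_of_epi _
    haveI : IsIso (AmpleLib.tensorMap (P.map (π 0)) (𝟙 M')) :=
      (inferInstance : IsIso (AmpleLib.tensorIso (asIso (P.map (π 0))) (Iso.refl M')).hom)
    infer_instance
  refine exists_filtration (r := s + 1) (E := E.restrict Z.ι)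
    (DQCoh.RpushDegree17.isFinLocFreeOfRank_of_iso (AmpleLib.restrictIsoPullback Z.ι E).symm
      (VarietyLib.isFinLocFreeOfRank_pullback Z.ι hE)) T q (fun i hi => ?_) fun i => ?_
  · refine Clifford24.isFinLocFreeOfRank_tensorMod (fun z => ?_) hM'
    refine FlatMor12.FlatFun.freeNear_pullback i₁ ?_
    have hz : IsFreeAt (Q i) (s + 1 - i) (i₁ z) := Set.mem_iInter.1 (hi₁ z) ⟨i, Nat.lt_succ_iff.2 hi⟩
    haveI := (hQc i).1
    obtain ⟨U', m, hU', ⟨e'⟩⟩ := Props12.exists_nhd_free (Q i) (hQc i).2 (i₁ z) hz.1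
    obtain rfl : m = s + 1 - i := (CohBC.finrank_stalk_of_free (Q i) hU' e').symm.trans hz.2.2
    exact ⟨U', hU', ⟨e'⟩⟩
  · obtain ⟨b, hb⟩ := hb i
    refine ⟨AmpleLib.tensorMap (P.map b) (𝟙 M'), ?_⟩
    show (e.hom ≫ _) ≫ _ = e.hom ≫ _
    rw [Category.assoc, ← CohBC.tensorMap_comp_id, ← P.map_comp, hb]

end Groth.Agent.Filt5
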