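import Groth.Agent.Filt5.Fibre
import Groth.Agent.Clifford24.StalkBasis
import Groth.Agent.CycLib28.PB.Ops.LocFree
import Groth.Agent.FlatMor12.SplitFibres
import Groth.Agent.Coherent.CohOps
import Groth.Agent.Clifford24.RankTwoSub

/-!
# Values of global sections at points; sections which vanish nowhere on a curve fibre
-/

set_option autoImplicit false
set_option linter.all false
set_option backward.isDefEq.respectTransparency.types false
set_option maxHeartbeats 1000000

universe u

open CategoryTheory CategoryTheory.Limits AlgebraicGeometry Opposite TopologicalSpace TensorProduct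
open Groth.Agent.Coherent Groth.Agent.PicLib Groth.Agent.AmpleLib

namespace Groth.Agent.Filt5

variable {X : Scheme.{u}} (Q : X.Modules)

/-- The residue field at a point. -/
abbrev Res (x : X) : Type u := IsLocalRing.ResidueField (X.presheaf.stalk x)

/-- The fibre of a module at a point. -/
abbrev Val (x : X) : Type u := Res x ⊗[X.presheaf.stalk x] (Q.presheaf.stalk x : Type u)

/-- The value of a global section at a point. -/
noncomputable def val (x : X) : Γ(Q, ⊤) →+ Val Q x where
  toFun t := 1 ⊗ₜ (Q.presheaf.germ ⊤ x trivial t)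
  map_zero' := by rw [map_zero, tmul_zero]
  map_add' a b := by rw [map_add, tmul_add]

/-- The value of a global function at a point. -/
noncomputable def ev (x : X) : Γ(X, ⊤) →+* Res x :=
  (IsLocalRing.residue (X.presheaf.stalk x)).comp (X.presheaf.germ ⊤ x trivial).hom

theorem val_smul (x : X) (a : Γ(X, ⊤)) (t : Γ(Q, ⊤)) : val Q x (a • t) = ev x a • val Q x t := by
  show (1 : Res x) ⊗ₜ[X.presheaf.stalk x] Q.presheaf.germ ⊤ x trivial (a • t) = _
  rw [QCohLoc.germ_smul', tmul_smul]
  rfl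

/-- Quasi-coherent and of finite presentation. -/
def Nice : Prop := Coh.IsQCoh Q ∧ CohB1.IsFP Q

/-- The stalk is free of rank `n`. -/
def IsFreeAt (n : ℕ) (x : X) : Prop :=
  Module.Free (X.presheaf.stalk x) (Q.presheaf.stalk x) ∧
    Module.Finite (X.presheaf.stalk x) (Q.presheaf.stalk x) ∧
    Module.finrank (X.presheaf.stalk x) (Q.presheaf.stalk x) = n

/-- The global sections generate at the point. -/
def Gen (x : X) : Prop :=
  Submodule.span (X.presheaf.stalk x)
      (Set.range fun s : Γ(Q, ⊤) => (Q.presheaf.germ ⊤ x trivial s : Q.presheaf.stalk x)) = ⊤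

theorem span_val {x : X} (hg : Gen Q x) : Submodule.span (Res x) (Set.range (val Q x)) = ⊤ := by
  refine Submodule.eq_top_iff'.2 fun v => ?_
  induction v using TensorProduct.induction_on with
  | zero => exact zero_mem _
  | add a b ha hb => exact add_mem ha hb
  | tmul a m =>
    rw [← mul_one a, ← smul_eq_mul, ← smul_tmul']
    refine Submodule.smul_mem _ _ ?_
    have hm : m ∈ Submodule.span (X.presheaf.stalk x)
        (Set.range fun s : Γ(Q, ⊤) => (Q.presheaf.germ ⊤ x trivial s : Q.presheaf.stalk x)) := hg ▸ trivial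
    induction hm using Submodule.span_induction with
    | mem y hy => obtain ⟨s, rfl⟩ := hy; exact Submodule.subset_span ⟨s, rfl⟩
    | zero => rw [tmul_zero]; exact zero_mem _
    | add y z _ _ hy hz => rw [tmul_add]; exact add_mem hy hz
    | smul r y _ hy =>
      rw [tmul_smul, show r • ((1 : Res x) ⊗ₜ[X.presheaf.stalk x] y) =
        IsLocalRing.residue _ r • ((1 : Res x) ⊗ₜ[X.presheaf.stalk x] y) from (algebraMap_smul _ _ _).symm]
      exact Submodule.smul_mem _ _ hy

theorem nontrivial_val {n : ℕ} {x : X} (h : IsFreeAt Q n x) : Module.finrank (Res x) (Val Q x) = n := by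
  obtain ⟨h1, h2, h3⟩ := h
  rw [Module.finrank_baseChange, h3]

/-- Coordinates near a point where the stalk is free. -/
theorem exists_chart (hQ : Nice Q) {n : ℕ} {x : X} (h : IsFreeAt Q n x) :
    ∃ (W : X.Opens), x ∈ W ∧ ∃ c : Γ(Q, ⊤) → Fin n → Γ(X, W), ∀ (y : X) (hy : y ∈ W), IsFreeAt Q n y ∧
      ∃ b : Module.Basis (Fin n) (X.presheaf.stalk y) (Q.presheaf.stalk y),
        ∀ (t : Γ(Q, ⊤)) (i : Fin n), b.repr (Q.presheaf.germ ⊤ y trivial t) i = X.presheaf.germ W y hy (c t i) := by
  haveI := hQ.1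
  haveI := h.1
  obtain ⟨U, m, hxU, ⟨e⟩⟩ := Props12.exists_nhd_free Q hQ.2 x h.1
  obtain ⟨W, hW, hxW, hWU⟩ := Opens.isBasis_iff_nbhd.mp X.isBasis_affineOpens hxU
  obtain ⟨bW⟩ := Props12.exists_basis_sections e hWU
  have key : ∀ (y : X) (hy : y ∈ W), ∃ b : Module.Basis (Fin m) (X.presheaf.stalk y) (Q.presheaf.stalk y),
      ∀ (t : Γ(Q, ⊤)) (i : Fin m), b.repr (Q.presheaf.germ ⊤ y trivial t) i =
        X.presheaf.germ W y hy (bW.repr (resM Q le_top t) i) := by
    intro y hy
    let _ := (X.presheaf.germ W y hy).hom.toAlgebra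
    let _ := Module.compHom (Q.presheaf.stalk y) (X.presheaf.germ W y hy).hom
    haveI : IsScalarTower Γ(X, W) (X.presheaf.stalk y) (Q.presheaf.stalk y) := .of_algebraMap_smul fun _ _ => rfl
    let g : Γ(Q, W) →ₗ[Γ(X, W)] Q.presheaf.stalk y :=
      { toFun := Q.presheaf.germ W y hy
        map_add' := map_add _
        map_smul' := fun r m => QCohLoc.germ_smul' (M := Q) hy r m }
    haveI := EGA43.QcohFP.isLocalizedModule_germ Q hW hy g fun _ => rfl
    haveI : IsLocalization (hW.primeIdealOf ⟨y, hy⟩).asIdeal.primeCompl (X.presheaf.stalk y) :=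
      hW.isLocalization_stalk ⟨y, hy⟩
    refine ⟨bW.ofIsLocalizedModule (X.presheaf.stalk y) (hW.primeIdealOf ⟨y, hy⟩).asIdeal.primeCompl g,
      fun t i => ?_⟩
    rw [← TopCat.Presheaf.germ_res_apply Q.presheaf (homOfLE (le_top : W ≤ ⊤)) y hy t]
    exact bW.ofIsLocalizedModule_repr_apply (X.presheaf.stalk y)
      (hW.primeIdealOf ⟨y, hy⟩).asIdeal.primeCompl g (resM Q le_top t) i
  obtain rfl : m = n := by
    obtain ⟨b, -⟩ := key x hxW
    exact ((Module.finrank_eq_card_basis b).trans (Fintype.card_fin m)).symm.trans h.2.2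
  refine ⟨W, hxW, fun t => bW.repr (resM Q le_top t), fun y hy => ?_⟩
  obtain ⟨b, hb⟩ := key y hy
  exact ⟨⟨Module.Free.of_basis b, Module.Finite.of_basis b,
    (Module.finrank_eq_card_basis b).trans (Fintype.card_fin m)⟩, b, hb⟩

theorem isOpen_isFreeAt (hQ : Nice Q) (n : ℕ) : IsOpen {x : X | IsFreeAt Q n x} :=
  isOpen_iff_forall_mem_open.2 fun x hx => by
    obtain ⟨W, hxW, c, hc⟩ := exists_chart Q hQ hx
    exact ⟨W, fun y hy => (hc y hy).1, W.2, hxW⟩

theorem indep_pair_iff {K : Type*} [Field K] {n : ℕ} (u v : Fin n → K) :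
    LinearIndependent K ![u, v] ↔ ∃ i j, u i * v j - u j * v i ≠ 0 := by
  rw [LinearIndependent.pair_iff]
  refine ⟨fun h => ?_, fun ⟨i, j, hij⟩ a b hab => ?_⟩
  · by_contra hc
    push Not at hc
    obtain ⟨i, hi⟩ : ∃ i, u i ≠ 0 := by
      by_contra hu
      push Not at hu
      exact one_ne_zero (h 1 0 (by ext j; simp [hu j])).1
    have h2 := h (v i) (-u i) (by
      ext j
      simp only [Pi.add_apply, Pi.smul_apply, smul_eq_mul, Pi.zero_apply]
      linear_combination -(hc i j))
    exact hi (neg_eq_zero.1 h2.2)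
  · have hI := congrFun hab i
    have hJ := congrFun hab j
    simp only [Pi.add_apply, Pi.smul_apply, smul_eq_mul, Pi.zero_apply] at hI hJ
    constructor
    · refine (mul_eq_zero.1 (?_ : a * (u i * v j - u j * v i) = 0)).resolve_right hij
      linear_combination v j * hI - v i * hJ
    · refine (mul_eq_zero.1 (?_ : b * (u i * v j - u j * v i) = 0)).resolve_right hij
      linear_combination u i * hJ - u j * hI

/-- In a chart the values are read off the coordinates. -/
theorem exists_valEquiv {n : ℕ} {y : X} {W : X.Opens} (hy : y ∈ W) (c : Γ(Q, ⊤) → Fin n → Γ(X, W))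
    (b : Module.Basis (Fin n) (X.presheaf.stalk y) (Q.presheaf.stalk y))
    (hb : ∀ (t : Γ(Q, ⊤)) (i : Fin n), b.repr (Q.presheaf.germ ⊤ y trivial t) i = X.presheaf.germ W y hy (c t i)) :
    ∃ e : Val Q y ≃ₗ[Res y] (Fin n → Res y), ∀ t i,
      e (val Q y t) i = IsLocalRing.residue _ (X.presheaf.germ W y hy (c t i)) := by
  refine ⟨(b.baseChange (Res y)).equivFun, fun t i => ?_⟩
  show (b.baseChange (Res y)).equivFun ((1 : Res y) ⊗ₜ Q.presheaf.germ ⊤ y trivial t) i = _
  rw [Module.Basis.equivFun_apply, Module.Basis.baseChange_repr_tmul, hb]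
  exact (Algebra.algebraMap_eq_smul_one _).symm

theorem residue_ne_zero_iff {y : X} {W : X.Opens} (hy : y ∈ W) (a : Γ(X, W)) :
    IsLocalRing.residue (X.presheaf.stalk y) (X.presheaf.germ W y hy a) ≠ 0 ↔ y ∈ X.basicOpen a := by
  rw [IsLocalRing.residue_ne_zero_iff_isUnit, X.mem_basicOpen _ _ hy]

theorem isOpen_val_ne_zero (hQ : Nice Q) (n : ℕ) (t : Γ(Q, ⊤)) :
    IsOpen {x : X | IsFreeAt Q n x ∧ val Q x t ≠ 0} :=
  isOpen_iff_forall_mem_open.2 fun x ⟨hx, hne⟩ => by
    obtain ⟨W, hxW, c, hc⟩ := exists_chart Q hQ hx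
    obtain ⟨-, b, hb⟩ := hc x hxW
    obtain ⟨e, he⟩ := exists_valEquiv Q hxW c b hb
    obtain ⟨i, hi⟩ : ∃ i, e (val Q x t) i ≠ 0 := Function.ne_iff.1 (e.map_ne_zero_iff.2 hne)
    rw [he, residue_ne_zero_iff] at hi
    refine ⟨X.basicOpen (c t i), fun y hy => ?_, (X.basicOpen _).2, hi⟩
    have hyW : y ∈ W := X.basicOpen_le _ hy
    obtain ⟨hf, b', hb'⟩ := hc y hyW
    obtain ⟨e', he'⟩ := exists_valEquiv Q hyW c b' hb'
    refine ⟨hf, fun h0 => (residue_ne_zero_iff hyW _).2 hy ?_⟩
    rw [← he', h0, map_zero]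
    rfl

theorem isOpen_indep (hQ : Nice Q) (n : ℕ) (s t : Γ(Q, ⊤)) :
    IsOpen {x : X | IsFreeAt Q n x ∧ LinearIndependent (Res x) ![val Q x s, val Q x t]} :=
  isOpen_iff_forall_mem_open.2 fun x ⟨hx, hne⟩ => by
    obtain ⟨W, hxW, c, hc⟩ := exists_chart Q hQ hx
    obtain ⟨-, b, hb⟩ := hc x hxW
    obtain ⟨e, he⟩ := exists_valEquiv Q hxW c b hb
    have h1 : LinearIndependent (Res x) ![e (val Q x s), e (val Q x t)] := by
      refine LinearIndependent.pair_iff.2 fun a b' hab => LinearIndependent.pair_iff.1 hne a b' (e.injective ?_)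
      rw [map_add, map_smul, map_smul, map_zero, hab]
    obtain ⟨i, j, hij⟩ := (indep_pair_iff _ _).1 h1
    simp only [he, ← map_mul, ← map_sub] at hij
    rw [residue_ne_zero_iff] at hij
    refine ⟨X.basicOpen (c s i * c t j - c s j * c t i), fun y hy => ?_, (X.basicOpen _).2, hij⟩
    have hyW : y ∈ W := X.basicOpen_le _ hy
    obtain ⟨hf, b', hb'⟩ := hc y hyW
    obtain ⟨e', he'⟩ := exists_valEquiv Q hyW c b' hb'
    have h2 : LinearIndependent (Res y) ![e' (val Q y s), e' (val Q y t)] :=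
      (indep_pair_iff _ _).2 ⟨i, j, by
        simp only [he', ← map_mul, ← map_sub]
        exact (residue_ne_zero_iff hyW _).2 hy⟩
    refine ⟨hf, LinearIndependent.pair_iff.2 fun a b'' hab => LinearIndependent.pair_iff.1 h2 a b'' ?_⟩
    rw [← e'.map_smul, ← e'.map_smul, ← e'.map_add, hab, e'.map_zero]

/-- A coordinate functional taking the value one on a section which is nonzero at the point. -/
theorem exists_functional {n : ℕ} {x : X} (h : IsFreeAt Q n x) (t : Γ(Q, ⊤)) (ht : val Q x t ≠ 0) :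
    ∃ ρ : Q.presheaf.stalk x →ₗ[X.presheaf.stalk x] X.presheaf.stalk x,
      ρ (Q.presheaf.germ ⊤ x trivial t) = 1 := by
  haveI := h.1
  haveI := h.2.1
  let b := Module.Free.chooseBasis (X.presheaf.stalk x) (Q.presheaf.stalk x)
  let v : Q.presheaf.stalk x := Q.presheaf.germ ⊤ x trivial t
  obtain ⟨i, hi⟩ : ∃ i, IsUnit (b.repr v i) := by
    by_contra hc
    push Not at hc
    refine ht ?_
    show (1 : Res x) ⊗ₜ[X.presheaf.stalk x] v = 0
    rw [← b.linearCombination_repr v, Finsupp.linearCombination_apply, Finsupp.sum, tmul_sum]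
    refine Finset.sum_eq_zero fun i _ => ?_
    rw [← smul_tmul, Algebra.smul_def, mul_one, IsLocalRing.ResidueField.algebraMap_eq,
      (IsLocalRing.residue_eq_zero_iff _).2 ((IsLocalRing.mem_maximalIdeal _).2 (hc i)), zero_tmul]
  refine ⟨(↑hi.unit⁻¹ : X.presheaf.stalk x) • b.coord i, ?_⟩
  show (↑hi.unit⁻¹ : X.presheaf.stalk x) * b.repr v i = 1
  exact hi.val_inv_mul

end Groth.Agent.Filt5
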