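import Groth.Agent.Filt5.Stalk
import Groth.Agent.SerreDual.LocFreeCriterion
import Groth.Agent.ModStalk.Exact
import Groth.Agent.H8Lim.ModFPDescent
import Groth.Agent.CAlgSmall.FPExtend

/-!
# Splitting off sections on a one-dimensional fibre
-/

set_option autoImplicit false
set_option linter.all false
set_option backward.isDefEq.respectTransparency.types false
set_option maxHeartbeats 1000000

universe u

open CategoryTheory CategoryTheory.Limits AlgebraicGeometry Opposite TopologicalSpace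
open Groth.Agent.Coherent Groth.Agent.PicLib Groth.Agent.AmpleLib

namespace Groth.Agent.Filt5

variable {X : Scheme.{u}}

/-- A set with finitely many distinguished points such that closed sets avoiding them meet it finitely. -/
def IsCurveLike (Φ : Set X) : Prop :=
  ∃ G : Set X, G.Finite ∧ G ⊆ Φ ∧ ∀ C : Set X, IsClosed C → (∀ g ∈ G, g ∉ C) → (C ∩ Φ).Finite

variable (k : Type u) [Field k] [Infinite k] (ψ : k →+* Γ(X, ⊤))

include k ψ in
/-- A section vanishing nowhere on the curve, for rank at least two. -/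
theorem exists_section {Φ : Set X} (hΦ : IsCurveLike Φ) (Q : X.Modules)
    (hQ : Nice Q) {n : ℕ} (hn : 2 ≤ n) (hf : ∀ x ∈ Φ, IsFreeAt Q n x) (hg : ∀ x ∈ Φ, Gen Q x) :
    ∃ t : Γ(Q, ⊤), ∀ x ∈ Φ, val Q x t ≠ 0 := by
  classical
  let _ : Module k Γ(Q, ⊤) := Module.compHom _ ψ
  have hsm : ∀ (x : X) (a : k) (t : Γ(Q, ⊤)), val Q x (a • t) = ev x (ψ a) • val Q x t :=
    fun x a t => val_smul Q x (ψ a) t
  -- sections with value in a given subspace
  let pre : ∀ x : X, Submodule (Res x) (Val Q x) → Submodule k Γ(Q, ⊤) := fun x K =>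
    { carrier := {t | val Q x t ∈ K}
      add_mem' := fun {a b} ha hb => show val Q x (a + b) ∈ K by rw [map_add]; exact K.add_mem ha hb
      zero_mem' := show val Q x 0 ∈ K by rw [map_zero]; exact K.zero_mem
      smul_mem' := fun a t ht => show val Q x (a • t) ∈ K by rw [hsm]; exact K.smul_mem _ ht }
  have proper : ∀ x ∈ Φ, ∀ K : Submodule (Res x) (Val Q x), K ≠ ⊤ → pre x K ≠ ⊤ := by
    intro x hx K hK h
    refine hK (top_le_iff.1 ((span_val Q (hg x hx)).ge.trans (Submodule.span_le.2 ?_)))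
    rintro v ⟨t, rfl⟩
    exact (show t ∈ pre x K from h ▸ Submodule.mem_top)
  have small : ∀ x ∈ Φ, ∀ v : Val Q x, Submodule.span (Res x) {v} ≠ ⊤ := by
    intro x hx v h
    have h1 := nontrivial_val Q (hf x hx)
    have h2 : Module.finrank (Res x) (Submodule.span (Res x) {v}) ≤ 1 := by
      simpa using finrank_span_le_card ({v} : Set (Val Q x))
    rw [h, finrank_top, h1] at h2
    omega
  obtain ⟨G, hGf, hGΦ, hG⟩ := hΦ
  obtain ⟨s, hs⟩ := exists_avoid (k := k) hGf.toFinset (fun x => pre x ⊥) fun x hx =>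
    proper x (hGΦ (hGf.mem_toFinset.1 hx)) ⊥ (fun h => small x (hGΦ (hGf.mem_toFinset.1 hx)) 0
      (by rw [Submodule.span_zero_singleton]; exact h))
  have hs' : ∀ g ∈ G, val Q g s ≠ 0 := fun g hg' h => hs g (hGf.mem_toFinset.2 hg') (show val Q g s ∈ (⊥ : Submodule (Res g) (Val Q g)) by rw [h]; exact Submodule.zero_mem _)
  let F : Set X := {x : X | IsFreeAt Q n x ∧ val Q x s ≠ 0}ᶜ ∩ Φ
  have hFf : F.Finite := hG _ (isOpen_val_ne_zero Q hQ n s).isClosed_compl
    fun g hg' hgc => hgc ⟨hf g (hGΦ hg'), hs' g hg'⟩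
  obtain ⟨t, ht⟩ := exists_avoid (k := k) (hGf.toFinset ∪ hFf.toFinset)
    (fun x => pre x (Submodule.span (Res x) {val Q x s})) fun x hx =>
      have hxΦ : x ∈ Φ := (Finset.mem_union.1 hx).elim (fun h => hGΦ (hGf.mem_toFinset.1 h))
        (fun h => (hFf.mem_toFinset.1 h).2)
      proper x hxΦ _ (small x hxΦ _)
  have hind : ∀ g ∈ G, LinearIndependent (Res g) ![val Q g s, val Q g t] := fun g hg' => by
    rw [LinearIndependent.pair_iff' (hs' g hg')]
    exact fun a ha => ht g (Finset.mem_union_left _ (hGf.mem_toFinset.2 hg'))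
      (show val Q g t ∈ _ from Submodule.mem_span_singleton.2 ⟨a, ha⟩)
  have hDf := hG _ (isOpen_indep Q hQ n s t).isClosed_compl
    fun g hg' hgc => hgc ⟨hf g (hGΦ hg'), hind g hg'⟩
  let D := {x : X | IsFreeAt Q n x ∧ LinearIndependent (Res x) ![val Q x s, val Q x t]}ᶜ ∩ Φ
  have hbad : ∀ x ∈ D, x ∉ F → {c : k | val Q x (s + c • t) = 0}.Subsingleton := by
    intro x hx hxF c hc d hd
    by_contra hne
    have hsx : val Q x s ≠ 0 := fun h => hxF ⟨fun h' => h'.2 h, hx.2⟩
    have h1 : ev x (ψ (c - d)) • val Q x t = 0 := by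
      have hc' : val Q x s + ev x (ψ c) • val Q x t = 0 := by rw [← hsm, ← map_add]; exact hc
      have hd' : val Q x s + ev x (ψ d) • val Q x t = 0 := by rw [← hsm, ← map_add]; exact hd
      rw [map_sub, map_sub]
      refine (sub_smul (ev x (ψ c)) (ev x (ψ d)) (val Q x t)).trans ?_
      rw [← add_sub_add_left_eq_sub _ _ (val Q x s), hc', hd', sub_zero]
    have h2 : val Q x t = 0 := (smul_eq_zero.1 h1).resolve_left
      ((map_ne_zero ((ev x).comp ψ)).2 (sub_ne_zero.2 hne))
    refine hsx ?_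
    have := hc
    simp only [Set.mem_setOf_eq, map_add, hsm, h2, smul_zero, add_zero] at this
    exact this
  obtain ⟨c, hc⟩ := ((((hDf.diff (t := F)).biUnion (t := fun x => {c : k | val Q x (s + c • t) = 0})
    fun x hx => (hbad x hx.1 hx.2).finite)).union (Set.finite_singleton (0 : k))).infinite_compl.nonempty
  refine ⟨s + c • t, fun x hx h0 => ?_⟩
  by_cases hxF : x ∈ F
  · have h1 : val Q x t ∉ Submodule.span (Res x) {val Q x s} := fun h =>
      ht x (Finset.mem_union_right _ (hFf.mem_toFinset.2 hxF)) h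
    rw [map_add, hsm, add_eq_zero_iff_eq_neg] at h0
    refine h1 (Submodule.mem_span_singleton.2 ⟨-(ev x (ψ c))⁻¹, ?_⟩)
    rw [h0, smul_neg, neg_smul, neg_neg, smul_smul, inv_mul_cancel₀, one_smul]
    exact (map_ne_zero ((ev x).comp ψ)).2 fun e => hc (Or.inr e)
  by_cases hxD : x ∈ D
  · exact hc (Or.inl (Set.mem_biUnion (show x ∈ _ \ F from ⟨hxD, hxF⟩) h0))
  have hi : LinearIndependent (Res x) ![val Q x s, val Q x t] := (not_not.1 fun h => hxD ⟨h, hx⟩ : x ∈ {x : X | _}).2
  rw [map_add, hsm] at h0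
  exact one_ne_zero ((LinearIndependent.pair_iff.1 hi 1 (ev x (ψ c)) (by rw [one_smul]; exact h0)).1)

theorem nice_cokernel {Q : X.Modules} (hQ : Nice Q) (t : Γ(Q, ⊤)) : Nice (cokernel (unitDesc Q t)) := by
  haveI := hQ.1
  haveI : Coh.IsQCoh (Coh.structureModule X) := QCohLoc.isQCoh_structureModule X
  exact ⟨Coherent.isQCoh_cokernel _, H8Lim.isFP_cokernel _ (CAlgSmall.FPExtend.isFT_of_isFP _
    (Props12.isFP_of_isFinLocFree _ (CohBC.isFinLocFree_structureModule X))) hQ.2⟩

theorem nice_cokernel_id {Q : X.Modules} (hQ : Nice Q) : Nice (cokernel (𝟙 Q)) := by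
  haveI := hQ.1
  exact ⟨Coherent.isQCoh_cokernel _, H8Lim.isFP_cokernel _ (CAlgSmall.FPExtend.isFT_of_isFP _ hQ.2) hQ.2⟩

/-- The cokernel of a section with nonzero value has rank one less. -/
theorem isFreeAt_cokernel (Q : X.Modules) {n : ℕ} {x : X} (h : IsFreeAt Q (n + 1) x) (t : Γ(Q, ⊤))
    (ht : val Q x t ≠ 0) : IsFreeAt (cokernel (unitDesc Q t)) n x := by
  haveI := h.1
  haveI := h.2.1
  let A := X.presheaf.stalk x
  let φ := unitDesc Q t
  let v : Q.presheaf.stalk x := Q.presheaf.germ ⊤ x trivial t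
  let S := (ShortComplex.mk φ (cokernel.π φ) (cokernel.condition φ)).map (DerSch.stalkFunctor X x)
  have hex : S.Exact := (ShortComplex.exact_of_g_is_cokernel _ (cokernelIsCokernel φ)).map (DerSch.stalkFunctor X x)
  have hg : Function.Surjective S.g.hom :=
    (ModuleCat.epi_iff_surjective _).1 ((DerSch.stalkFunctor X x).map_epi (cokernel.π φ))
  have hfg := (ShortComplex.ShortExact.moduleCat_exact_iff_function_exact _).1 hex
  have hgerm : ∀ (V : X.Opens) (hV : x ∈ V) (r : Γ(X, V)),
      S.f.hom ((Coh.structureModule X).presheaf.germ V x hV r) = X.presheaf.germ V x hV r • v := fun V hV r => by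
    refine (SerreDual.stalkMap_germ' φ hV r).trans ?_
    rw [app_unit, QCohLoc.germ_smul']
    congr 1
    rw [unitVal_unitDesc]
    exact SerreDual.germ_resM le_top hV t
  have hr : LinearMap.range S.f.hom = Submodule.span A {v} := by
    refine le_antisymm ?_ (Submodule.span_le.2 (Set.singleton_subset_iff.2 ?_))
    · rintro _ ⟨a, rfl⟩
      obtain ⟨V, hV, r, rfl⟩ := (Coh.structureModule X).presheaf.exists_germ_eq a
      rw [hgerm]
      exact Submodule.smul_mem _ _ (Submodule.mem_span_singleton_self v)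
    · refine ⟨(Coh.structureModule X).presheaf.germ ⊤ x trivial (1 : Γ(X, ⊤)), ?_⟩
      rw [hgerm, map_one, one_smul]
  obtain ⟨ρ, hρ⟩ := exists_functional Q h t ht
  have hc : IsCompl (Submodule.span A {v}) (LinearMap.ker ρ) := by
    refine ⟨Submodule.disjoint_def.2 fun w hw hw' => ?_, codisjoint_iff.2 (Submodule.eq_top_iff'.2 fun w => ?_)⟩
    · obtain ⟨a, rfl⟩ := Submodule.mem_span_singleton.1 hw
      rw [LinearMap.mem_ker, map_smul, hρ, smul_eq_mul, mul_one] at hw'
      rw [hw', zero_smul]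
    · rw [← add_sub_cancel (ρ w • v) w]
      refine Submodule.add_mem_sup (Submodule.smul_mem _ _ (Submodule.mem_span_singleton_self v)) ?_
      rw [LinearMap.mem_ker, map_sub, map_smul, hρ, smul_eq_mul, mul_one, sub_self]
  have e : (cokernel φ).presheaf.stalk x ≃ₗ[A] LinearMap.ker ρ :=
    (hfg.linearEquivOfSurjective hg).symm ≪≫ₗ Submodule.quotEquivOfEq _ _ hr ≪≫ₗ
      Submodule.quotientEquivOfIsCompl _ _ hc
  haveI hp : Module.Projective A (LinearMap.ker ρ) := Module.Projective.of_split (LinearMap.ker ρ).subtype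
    ((LinearMap.ker ρ).linearProjOfIsCompl _ hc.symm) (LinearMap.ext fun w => Submodule.linearProjOfIsCompl_apply_left hc.symm w)
  haveI hfin : Module.Finite A (LinearMap.ker ρ) := Module.Finite.of_surjective
    ((LinearMap.ker ρ).linearProjOfIsCompl _ hc.symm) fun w => ⟨w, Submodule.linearProjOfIsCompl_apply_left hc.symm w⟩
  haveI hfree : Module.Free A (LinearMap.ker ρ) := Module.free_of_flat_of_isLocalRing
  haveI hfree' : Module.Free A (Submodule.span A {v}) := Module.Free.of_equiv
    (LinearEquiv.ofBijective ((LinearMap.toSpanSingleton A _ v).codRestrict (Submodule.span A {v})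
      fun a => Submodule.smul_mem _ _ (Submodule.mem_span_singleton_self v))
      ⟨fun a b hab => by
        have this : ρ (a • v) = ρ (b • v) := congrArg (fun z : Submodule.span A {v} => ρ z.1) hab
        rwa [map_smul, map_smul, show ρ v = 1 from hρ, smul_eq_mul, smul_eq_mul, mul_one, mul_one] at this,
      fun ⟨w, hw⟩ => by
        obtain ⟨a, rfl⟩ := Submodule.mem_span_singleton.1 hw
        exact ⟨a, rfl⟩⟩)
  have h1 : Module.finrank A (Submodule.span A {v}) = 1 := by
    refine (LinearEquiv.finrank_eq (LinearEquiv.ofBijective ((LinearMap.toSpanSingleton A _ v).codRestrict _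
      fun a => Submodule.smul_mem _ _ (Submodule.mem_span_singleton_self v))
      ⟨fun a b hab => by
        have this : ρ (a • v) = ρ (b • v) := congrArg (fun z : Submodule.span A {v} => ρ z.1) hab
        rwa [map_smul, map_smul, show ρ v = 1 from hρ, smul_eq_mul, smul_eq_mul, mul_one, mul_one] at this,
      fun ⟨w, hw⟩ => by
        obtain ⟨a, rfl⟩ := Submodule.mem_span_singleton.1 hw
        exact ⟨a, rfl⟩⟩)).symm.trans (Module.finrank_self A)
  haveI : Module.Finite A (Submodule.span A {v}) := Module.Finite.span_singleton A v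
  have h2 := (Submodule.prodEquivOfIsCompl _ _ hc).finrank_eq
  rw [Module.finrank_prod, h1, h.2.2] at h2
  refine ⟨Module.Free.of_equiv e.symm, Module.Finite.equiv e.symm, ?_⟩
  rw [e.finrank_eq]
  omega

theorem gen_of_epi {Q Q' : X.Modules} (π : Q ⟶ Q') [Epi π] {x : X} (h : Gen Q x) : Gen Q' x := by
  have hs : Function.Surjective ((DerSch.stalkFunctor X x).map π).hom :=
    (ModuleCat.epi_iff_surjective _).1 ((DerSch.stalkFunctor X x).map_epi π)
  unfold Gen at h ⊢
  refine eq_top_iff.2 (((LinearMap.range_eq_top.2 hs).symm.trans ((LinearMap.range_eq_map _).trans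
    ((congrArg (Submodule.map ((DerSch.stalkFunctor X x).map π).hom) h.symm).trans
      (Submodule.map_span _ _)))).trans_le (Submodule.span_mono ?_))
  rintro _ ⟨_, ⟨s, rfl⟩, rfl⟩
  exact ⟨π.app ⊤ s, (SerreDual.stalkMap_germ' π (show x ∈ (⊤ : X.Opens) from trivial) s).symm⟩

include k ψ in
/-- Along the curve a generated module has successive quotients by line subbundles. -/
theorem exists_chain {Φ : Set X} (hΦ : IsCurveLike Φ) :
    ∀ (s : ℕ) (Q : X.Modules), Nice Q → (∀ x ∈ Φ, IsFreeAt Q (s + 1) x) → (∀ x ∈ Φ, Gen Q x) →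
      ∃ (Qs : ℕ → X.Modules) (π : ∀ i, Q ⟶ Qs i), (∀ i, Epi (π i)) ∧ Mono (π 0) ∧ (∀ i, Nice (Qs i)) ∧
        (∀ i, i ≤ s + 1 → ∀ x ∈ Φ, IsFreeAt (Qs i) (s + 1 - i) x) ∧
        ∀ i, ∃ b : Qs i ⟶ Qs (i + 1), π i ≫ b = π (i + 1) := by
  intro s
  induction s with
  | zero =>
    intro Q hQ hf hg
    let Z : X.Modules := cokernel (𝟙 Q)
    refine ⟨fun i => Nat.casesOn i Q fun _ => Z, fun i => Nat.casesOn i (𝟙 Q) fun _ => cokernel.π (𝟙 Q),
      fun i => ?_, inferInstanceAs (Mono (𝟙 Q)), fun i => ?_, fun i hi x hx => ?_, fun i => ?_⟩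
    · cases i
      exacts [inferInstanceAs (Epi (𝟙 Q)), inferInstanceAs (Epi (cokernel.π (𝟙 Q)))]
    · cases i
      exacts [hQ, nice_cokernel_id hQ]
    · rcases i with _ | i
      · exact hf x hx
      · obtain rfl : i = 0 := by omega
        haveI : Subsingleton (Z.presheaf.stalk x) := by
          have hz : IsZero ((DerSch.stalkFunctor X x).obj Z) :=
            (DerSch.stalkFunctor X x).map_isZero (Limits.isZero_cokernel_of_epi (𝟙 Q))
          exact ModuleCat.subsingleton_of_isZero hz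
        exact ⟨Module.Free.of_subsingleton _ _, inferInstance, Module.finrank_zero_of_subsingleton⟩
    · cases i
      exacts [⟨cokernel.π (𝟙 Q), Category.id_comp _⟩, ⟨𝟙 _, Category.comp_id _⟩]
  | succ s ih =>
    intro Q hQ hf hg
    obtain ⟨t, ht⟩ := exists_section k ψ hΦ Q hQ (by omega) hf hg
    let Q' := cokernel (unitDesc Q t)
    obtain ⟨Qs, π, he, -, hc, hr, hb⟩ := ih Q' (nice_cokernel hQ t)
      (fun x hx => isFreeAt_cokernel Q (hf x hx) t (ht x hx)) fun x hx => gen_of_epi (cokernel.π _) (hg x hx)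
    refine ⟨fun i => Nat.casesOn i Q Qs, fun i => Nat.casesOn i (𝟙 Q) fun j => cokernel.π _ ≫ π j,
      fun i => ?_, inferInstanceAs (Mono (𝟙 Q)), fun i => ?_, fun i hi x hx => ?_, fun i => ?_⟩
    · rcases i with _ | i
      · exact inferInstanceAs (Epi (𝟙 Q))
      · haveI := he i
        exact epi_comp _ _
    · cases i
      exacts [hQ, hc _]
    · rcases i with _ | i
      · exact hf x hx
      · show IsFreeAt (Qs i) (s + 1 + 1 - (i + 1)) x
        rw [Nat.add_sub_add_right]
        exact hr i (by omega) x hx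
    · rcases i with _ | i
      · exact ⟨cokernel.π _ ≫ π 0, Category.id_comp _⟩
      · obtain ⟨b, hb⟩ := hb i
        exact ⟨b, by rw [Category.assoc, hb]⟩

end Groth.Agent.Filt5
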