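import Groth.Agent.Filt5.Step
import Groth.Agent.Filt5.Extension
import Groth.Agent.KDet28.DetSES
import Groth.Agent.KvbLam28.Basic
import Groth.Agent.Canon15.ExtPowPull
import Groth.Agent.CycLib28.PB.ChernLine
import Groth.Agent.PicLib.FiniteSetTriv
import Groth.Agent.Coherent.CohBC.PushStructure

/-!
# Bundles with trivial determinant near a curve fibre become free on affine schemes over a neighbourhood
-/

set_option autoImplicit false
set_option linter.all false
set_option backward.isDefEq.respectTransparency.types false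
set_option maxHeartbeats 1000000

universe u

open CategoryTheory CategoryTheory.Limits AlgebraicGeometry Opposite TopologicalSpace
open Groth.Agent.Coherent Groth.Agent.PicLib Groth.Agent.AmpleLib

namespace Groth.Agent.Filt5

variable {X : Scheme.{u}} (k : Type u) [Field k] [Infinite k] (ψ : k →+* Γ(X, ⊤))

theorem freeNear_of_isFreeAt {Q : X.Modules} (hQ : Nice Q) {n : ℕ} {x : X} (h : IsFreeAt Q n x) :
    FlatFun.IsFreeOfRankNear Q n x := by
  haveI := hQ.1
  obtain ⟨U, m, hU, ⟨e⟩⟩ := Props12.exists_nhd_free Q hQ.2 x h.1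
  obtain rfl : m = n := (CohBC.finrank_stalk_of_free Q hU e).symm.trans h.2.2
  exact ⟨U, hU, ⟨e⟩⟩

include k ψ in
theorem exists_trivial_open {Φ : Set X} (hΦ : IsCurveLike Φ) :
    ∀ (s : ℕ) (Q : X.Modules), Nice Q → (∀ x ∈ Φ, IsFreeAt Q (s + 1) x) → (∀ x ∈ Φ, Gen Q x) →
      ∃ O : X.Opens, Φ ⊆ O ∧ ∀ (Z : Scheme.{u}) [IsAffine Z] (j : Z ⟶ X), (∀ z, j z ∈ O) →
        ∀ D : Z.Modules, ExtPow.IsExtPow (s + 1) ((Scheme.Modules.pullback j).obj Q) D →
          Nonempty (D ≅ Coh.structureModule Z) →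
          Nonempty ((Scheme.Modules.pullback j).obj Q ≅ FlatMod.freeMod Z (s + 1)) := by
  intro s
  induction s with
  | zero =>
    intro Q hQ hf hg
    refine ⟨⟨_, isOpen_isFreeAt Q hQ 1⟩, hf, fun Z _ j hj D hD hD' => ?_⟩
    obtain ⟨eD⟩ := hD'
    obtain ⟨e⟩ := KvbLam28.exists_iso_of_isExtPow (KvbLam28.isExtPow_one ((Scheme.Modules.pullback j).obj Q)) hD
    exact ⟨e ≪≫ eD ≪≫ (freeModOneIso Z).symm⟩
  | succ s ih =>
    intro Q hQ hf hg
    obtain ⟨t, ht⟩ := exists_section k ψ hΦ Q hQ (by omega) hf hg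
    let φ := Coherent.unitDesc Q t
    let Q' := cokernel φ
    obtain ⟨O', hO', hmain⟩ := ih Q' (nice_cokernel hQ t)
      (fun x hx => isFreeAt_cokernel Q (hf x hx) t (ht x hx)) fun x hx => gen_of_epi (cokernel.π _) (hg x hx)
    let O₁ : X.Opens := ⟨_, isOpen_val_ne_zero Q hQ (s + 2) t⟩
    refine ⟨O' ⊓ O₁, fun x hx => ⟨hO' hx, hf x hx, ht x hx⟩, fun Z _ j hj D hD hD' => ?_⟩
    obtain ⟨eD⟩ := hD'
    let P := Scheme.Modules.pullback j
    have hA : FlatMod.IsFinLocFreeOfRank (s + 2) (P.obj Q) := fun z =>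
      FlatMor12.FlatFun.freeNear_pullback j (freeNear_of_isFreeAt hQ (hj z).2.1)
    have hB : FlatMod.IsFinLocFreeOfRank (s + 1) (P.obj Q') := fun z =>
      FlatMor12.FlatFun.freeNear_pullback j
        (freeNear_of_isFreeAt (nice_cokernel hQ t) (isFreeAt_cokernel Q (hj z).2.1 t (hj z).2.2))
    have hK := isFinLocFreeOfRank_kernel_epi hA hB (P.map (cokernel.π φ))
    rw [show s + 2 - (s + 1) = 1 by omega] at hK
    let K := kernel (P.map (cokernel.π φ))
    have hKi : PicF.IsInvertible K := fun z =>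
      let ⟨U, hz, ⟨e⟩⟩ := hK z
      ⟨U, hz, ⟨e ≪≫ freeModOneIso _⟩⟩
    -- the section generates the kernel
    have hw : P.map φ ≫ P.map (cokernel.π φ) = 0 := by rw [← P.map_comp, cokernel.condition, P.map_zero]
    let c := kernel.lift (P.map (cokernel.π φ)) (P.map φ) hw
    haveI : P.IsLeftAdjoint := (Scheme.Modules.pullbackPushforwardAdjunction j).isLeftAdjoint
    haveI : Epi c := ShortComplex.Exact.epi_kernelLift (S := ShortComplex.mk (P.map φ) (P.map (cokernel.π φ)) hw)
      (ShortComplex.exact_of_g_is_cokernel _ (isColimitOfHasCokernelOfPreservesColimit P φ))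
    haveI : IsIso c := CycLib28.PB.isIso_of_epi_invertible
      (PicLoc.isInvertible_pullback j isInvertible_structureModule) hKi c
    let eK : K ≅ Coh.structureModule Z := (asIso c).symm ≪≫ PicLoc.pullbackStructureIso j
    -- the determinant of the quotient
    obtain ⟨D', hD'f, hD'⟩ := ExtPowEx28.exists_isExtPow (VarietyLib.isFinLocFree_of_rank hB) (s + 1)
    have hS : (ShortComplex.mk (kernel.ι (P.map (cokernel.π φ))) (P.map (cokernel.π φ))
        (kernel.condition _)).ShortExact :=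
      ShortComplex.ShortExact.mk' (ShortComplex.exact_of_f_is_kernel _ (kernelIsKernel _)) inferInstance inferInstance
    obtain ⟨e⟩ := KDet28.nonempty_det_ses hS hK hB (KvbLam28.isExtPow_one K)
      (show ExtPow.IsExtPow (1 + (s + 1)) (P.obj Q) D by rwa [show 1 + (s + 1) = s + 1 + 1 by omega]) hD'
    haveI := LocFreeLib.isQCoh_of_isFinLocFreeOfRank hA
    haveI := LocFreeLib.isQCoh_of_isFinLocFreeOfRank hB
    obtain ⟨eB⟩ := hmain Z j (fun z => (hj z).1) D' hD'
      ⟨(unitTensorIso D').symm ≪≫ AmpleLib.tensorIso eK.symm (Iso.refl D') ≪≫ e.symm ≪≫ eD⟩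
    exact nonempty_free_extension (P.map (cokernel.π φ)) eB eK

end Groth.Agent.Filt5
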